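import Cfsg.Agent.Jordan.Unitary
import Mathlib.Analysis.SpecialFunctions.Complex.Arg
import Mathlib.GroupTheory.Index

/-!
# Frobenius' theorem on unitary elements near the identity

In a finite unitary group the elements whose eigenvalues have argument of absolute value less
than `π/6` commute pairwise; they generate an abelian normal subgroup meeting every abelian
subgroup in index at most `12 ^ dim`.
-/

set_option autoImplicit false
set_option linter.unusedSectionVars false
set_option linter.style.haveILetI false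

namespace CfsgLib.Jordan

open scoped ComplexConjugate InnerProductSpace

variable {G : Type*} [Group G] [Finite G]
  {W : Type*} [NormedAddCommGroup W] [InnerProductSpace ℂ W] [FiniteDimensional ℂ W]
  (u : G →* (W →L[ℂ] W)) (hu : ∀ g w, ‖u g w‖ = ‖w‖)

/-- The centre of the disc containing the eigenvalues of a near-identity element. -/
noncomputable def discCentre : ℂ := ((Real.sqrt 3 / 2 : ℝ) : ℂ)

/-- The elements `g` with `‖u g - √3/2‖ < 1/2`. -/
def nearSet : Set G :=
  {g | ∃ r < (1 / 2 : ℝ), ∀ w : W, ‖u g w - discCentre • w‖ ≤ r * ‖w‖}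

include hu in
theorem comm_op_bound {c y : G} {r : ℝ} (hr : ∀ w : W, ‖u y w - discCentre • w‖ ≤ r * ‖w‖)
    (hr0 : 0 ≤ r) (b : ℂ) {s : ℝ} (hs : ∀ w : W, ‖u c w - b • w‖ ≤ s * ‖w‖) (hs0 : 0 ≤ s)
    (w : W) : ‖u (c * y * c⁻¹ * y⁻¹) w - w‖ ≤ 2 * r * s * ‖w‖ := by
  set z : W := u (c⁻¹ * y⁻¹) w with hz
  have hznorm : ‖z‖ = ‖w‖ := hu _ _
  have h1 : u (c * y * c⁻¹ * y⁻¹) w = u c (u y z) := by
    rw [hz, ← apply_mul, ← apply_mul]; congr 2; simp [mul_assoc]
  have h2 : u y (u c z) = w := by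
    rw [hz, ← apply_mul, ← apply_mul]
    simp [mul_assoc]
  have key : u c (u y z) - u y (u c z) =
      (u c (u y z - discCentre • z) - b • (u y z - discCentre • z)) -
        (u y (u c z - b • z) - discCentre • (u c z - b • z)) := by
    simp only [map_sub, map_smul, smul_sub, smul_smul, mul_comm b discCentre]
    abel
  rw [h1]
  conv_lhs => rw [← h2]
  rw [key]
  calc _ ≤ ‖u c (u y z - discCentre • z) - b • (u y z - discCentre • z)‖ +
        ‖u y (u c z - b • z) - discCentre • (u c z - b • z)‖ := norm_sub_le _ _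
    _ ≤ s * ‖u y z - discCentre • z‖ + r * ‖u c z - b • z‖ := add_le_add (hs _) (hr _)
    _ ≤ s * (r * ‖z‖) + r * (s * ‖z‖) :=
        add_le_add (mul_le_mul_of_nonneg_left (hr _) hs0) (mul_le_mul_of_nonneg_left (hs _) hr0)
    _ = _ := by rw [hznorm]; ring

include hu in
/-- An element none of whose values is orthogonal to its argument centralises `y` as soon as the
conjugate of `y` commutes with `y`. -/
theorem eq_of_commute_conj (hinj : ∀ g, u g = 1 → g = 1) {z y : G}
    (hz : ∀ v : W, v ≠ 0 → ⟪u z v, v⟫_ℂ ≠ 0) (hc : Commute (z * y * z⁻¹) y) :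
    Commute z y := by
  set w := z * y * z⁻¹ with hw
  let g : Bool → G := fun i => if i then y else w
  have hg : ∀ i j, Commute (g i) (g j) := by
    intro i j
    cases i <;> cases j <;>
      simp only [g, Bool.false_eq_true, if_true, if_false] <;>
      first
        | exact Commute.refl _
        | exact hc
        | exact hc.symm
  have heq : op u y = op u w := by
    refine op_eq_of_joint u g hg _ _ fun ν v hv => ?_
    have hy : u y v = ν true • v := (mem_joint u g).1 hv true
    have hwv : u w v = ν false • v := (mem_joint u g).1 hv false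
    show u y v = u w v
    rw [hy, hwv]
    by_contra hne
    have hν : ν true ≠ ν false := fun h => hne (by rw [h])
    have hv0 : v ≠ 0 := fun h => hne (by simp [h])
    have h1 : u w (u z v) = ν true • u z v := by
      rw [← apply_mul, show w * z = z * y by simp [hw], apply_mul, hy, map_smul]
    exact hz v hv0 (inner_eq_zero_of_ne u hu h1 hwv hν)
  have hyw : y = w := by
    have h3 : u (y⁻¹ * w) = 1 := by
      refine ContinuousLinearMap.ext fun v => ?_
      have h4 : u y v = u w v := LinearMap.congr_fun heq v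
      rw [apply_mul, ← h4, ← apply_mul]; simp
    exact inv_mul_eq_one.1 (hinj _ h3)
  rw [hw] at hyw
  exact (eq_mul_inv_iff_mul_eq.1 hyw).symm

theorem inner_ne_zero_of_near_one {z : G} {s : ℝ} (hs : s < 1)
    (hz : ∀ w : W, ‖u z w - w‖ ≤ s * ‖w‖) (v : W) (hv : v ≠ 0) : ⟪u z v, v⟫_ℂ ≠ 0 := by
  intro h
  have h1 := norm_sub_sq (𝕜 := ℂ) (u z v) v
  rw [h] at h1
  simp only [map_zero, mul_zero, sub_zero] at h1
  have h2 : ‖v‖ ≤ ‖u z v - v‖ := by nlinarith [norm_nonneg (u z v - v), norm_nonneg v, sq_nonneg ‖u z v‖]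
  nlinarith [norm_pos_iff.2 hv, hz v]

theorem inner_ne_zero_of_mem_nearSet {z : G} (hz : z ∈ nearSet u) (v : W) (hv : v ≠ 0) :
    ⟪u z v, v⟫_ℂ ≠ 0 := by
  obtain ⟨r, hr, hz⟩ := hz
  intro h
  have h0 : ⟪u z v, discCentre • v⟫_ℂ = 0 := by rw [inner_smul_right, h, mul_zero]
  have h1 := norm_sub_sq (𝕜 := ℂ) (u z v) (discCentre • v)
  rw [h0] at h1
  simp only [map_zero, mul_zero, sub_zero] at h1
  have hb : ‖discCentre‖ = Real.sqrt 3 / 2 := by
    rw [discCentre, Complex.norm_real, Real.norm_eq_abs, abs_of_nonneg (by positivity)]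
  rw [norm_smul, hb] at h1
  have h3 : Real.sqrt 3 * Real.sqrt 3 = 3 := Real.mul_self_sqrt (by norm_num)
  have hpos := norm_pos_iff.2 hv
  have h4 : ‖u z v - discCentre • v‖ < 1 / 2 * ‖v‖ :=
    lt_of_le_of_lt (hz v) (mul_lt_mul_of_pos_right hr hpos)
  have h5 := pow_lt_pow_left₀ h4 (norm_nonneg _) two_ne_zero
  rw [h1, mul_pow, mul_pow, div_pow, Real.sq_sqrt (show (0:ℝ) ≤ 3 by norm_num)] at h5
  nlinarith [sq_nonneg ‖u z v‖, pow_pos hpos 2]

include hu in
/-- Elements of the near set commute pairwise. -/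
theorem nearSet_commute (hinj : ∀ g, u g = 1 → g = 1) {x y : G} (hx : x ∈ nearSet u)
    (hy : y ∈ nearSet u) : Commute x y := by
  classical
  obtain ⟨rx, hrx, hX⟩ := hx
  obtain ⟨ry, hry, hY⟩ := hy
  rcases subsingleton_or_nontrivial W with hW | hW
  · have : ∀ g : G, g = 1 := fun g => hinj g (ContinuousLinearMap.ext fun w => Subsingleton.elim _ _)
    rw [this x, this y]
  obtain ⟨w₀, hw₀⟩ := exists_ne (0 : W)
  have hnn : ∀ {g : G} {b : ℂ} {s : ℝ}, (∀ w : W, ‖u g w - b • w‖ ≤ s * ‖w‖) → 0 ≤ s := by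
    intro g b s h
    nlinarith [h w₀, norm_pos_iff.2 hw₀, norm_nonneg (u g w₀ - b • w₀)]
  -- distance from the identity
  let N : G → ℝ := fun g => ‖u g - 1‖
  have hN : ∀ g w, ‖u g w - (1 : ℂ) • w‖ ≤ N g * ‖w‖ := fun g w => by
    simpa using (u g - 1).le_opNorm w
  have claim : ∀ c : G, N c < 1 / 2 → Commute c y := by
    by_contra hne
    push Not at hne
    obtain ⟨c₀, hc₀, hc₀'⟩ := hne
    haveI := Fintype.ofFinite G
    obtain ⟨c, hcmem, hcmin⟩ := Finset.exists_min_image
      (Finset.univ.filter fun c => N c < 1 / 2 ∧ ¬ Commute c y) N ⟨c₀, Finset.mem_filter.2 ⟨Finset.mem_univ _, hc₀, hc₀'⟩⟩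
    simp only [Finset.mem_filter, Finset.mem_univ, true_and] at hcmem hcmin
    obtain ⟨hc, hc'⟩ := hcmem
    have hcpos : 0 < N c := norm_pos_iff.2 fun h0 => hc' (by
      rw [hinj c (sub_eq_zero.1 h0)]; exact Commute.one_left y)
    set d := c * y * c⁻¹ * y⁻¹ with hd
    have hd1 : N d ≤ 2 * ry * N c := by
      refine ContinuousLinearMap.opNorm_le_bound _ (by have := hnn hY; positivity) fun w => ?_
      show ‖u d w - w‖ ≤ _
      exact comm_op_bound u hu hY (hnn hY) 1 (hN c) (norm_nonneg _) w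
    have hlt : N d < N c := lt_of_le_of_lt hd1 (by nlinarith)
    have hdy : Commute d y := by
      by_contra h
      exact absurd (hcmin d ⟨hlt.trans hc, h⟩) (not_le.2 hlt)
    refine hc' (eq_of_commute_conj u hu hinj ?_ ?_)
    · exact inner_ne_zero_of_near_one u (s := N c) (by linarith) (fun w => by simpa using hN c w)
    · have : c * y * c⁻¹ = d * y := by simp [hd]
      rw [this]; exact hdy.mul_left (Commute.refl y)
  have h1 : N (x * y * x⁻¹ * y⁻¹) < 1 / 2 := by
    refine lt_of_le_of_lt (ContinuousLinearMap.opNorm_le_bound _ (by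
      have := hnn hY; have := hnn hX; positivity) fun w => ?_) (show 2 * ry * rx < 1 / 2 by
        nlinarith [hnn hX, hnn hY])
    show ‖u _ w - w‖ ≤ _
    exact comm_op_bound u hu hY (hnn hY) _ hX (hnn hX) w
  refine eq_of_commute_conj u hu hinj (inner_ne_zero_of_mem_nearSet u ⟨rx, hrx, hX⟩) ?_
  have : x * y * x⁻¹ = (x * y * x⁻¹ * y⁻¹) * y := by simp
  rw [this]; exact (claim _ h1).mul_left (Commute.refl y)

include hu in
theorem nearSet_conj {g x : G} (hx : x ∈ nearSet u) : g * x * g⁻¹ ∈ nearSet u := by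
  obtain ⟨r, hr, h⟩ := hx
  refine ⟨r, hr, fun w => ?_⟩
  have h1 : w = u g (u g⁻¹ w) := by rw [← apply_mul]; simp
  rw [apply_mul, apply_mul]
  conv_lhs => arg 1; arg 2; rw [h1]
  rw [← map_smul, ← map_sub, hu]
  refine (h _).trans (le_of_eq ?_)
  rw [hu]

/-- The subgroup generated by the near set. -/
def nearSubgroup : Subgroup G := Subgroup.closure (nearSet u)

include hu in
theorem nearSubgroup_normal : (nearSubgroup u).Normal :=
  Subgroup.Normal.mk fun n hn g => by
    have : (nearSubgroup u).map (MulAut.conj g).toMonoidHom ≤ nearSubgroup u := by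
      rw [nearSubgroup, MonoidHom.map_closure]
      refine Subgroup.closure_mono ?_
      rintro _ ⟨x, hx, rfl⟩
      simpa using nearSet_conj u hu hx
    simpa using this (Subgroup.mem_map_of_mem _ hn)

include hu in
theorem nearSubgroup_comm (hinj : ∀ g, u g = 1 → g = 1) {x y : G} (hx : x ∈ nearSubgroup u)
    (hy : y ∈ nearSubgroup u) : x * y = y * x := by
  have h1 : nearSubgroup u ≤ Subgroup.centralizer (nearSet u) := by
    rw [nearSubgroup, Subgroup.closure_le]
    exact fun a ha => Subgroup.mem_centralizer_iff.2 fun b hb => nearSet_commute u hu hinj hb ha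
  have h2 : nearSubgroup u ≤ Subgroup.centralizer (nearSubgroup u : Set G) := by
    conv_lhs => rw [nearSubgroup]
    rw [Subgroup.closure_le]
    exact fun a ha => Subgroup.mem_centralizer_iff.2 fun b hb =>
      (Subgroup.mem_centralizer_iff.1 (h1 hb) a ha).symm
  exact Subgroup.mem_centralizer_iff.1 (h2 hy) x hx

/-- The arc containing a unit complex number, among twelve. -/
noncomputable def box (a : ℂ) : ℕ := ⌈(a.arg + Real.pi) / (Real.pi / 6)⌉₊ - 1

theorem box_lt (a : ℂ) : box a < 12 := by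
  have h1 : (a.arg + Real.pi) / (Real.pi / 6) ≤ 12 := by
    rw [div_le_iff₀ (by positivity)]; linarith [Complex.arg_le_pi a]
  have h2 : ⌈(a.arg + Real.pi) / (Real.pi / 6)⌉₊ ≤ 12 := Nat.ceil_le.2 (by exact_mod_cast h1)
  unfold box; omega

theorem abs_arg_sub_lt {a b : ℂ} (h : box a = box b) : |a.arg - b.arg| < Real.pi / 6 := by
  set s := (a.arg + Real.pi) / (Real.pi / 6) with hs
  set t := (b.arg + Real.pi) / (Real.pi / 6) with ht
  have hs0 : 0 < s := div_pos (by linarith [Complex.neg_pi_lt_arg a]) (by positivity)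
  have ht0 : 0 < t := div_pos (by linarith [Complex.neg_pi_lt_arg b]) (by positivity)
  have h1 : ⌈s⌉₊ = ⌈t⌉₊ := by
    have := Nat.ceil_pos.2 hs0
    have := Nat.ceil_pos.2 ht0
    unfold box at h; rw [← hs, ← ht] at h; omega
  have h2 : |s - t| < 1 := by
    have := Nat.le_ceil s
    have := Nat.le_ceil t
    have := Nat.ceil_lt_add_one hs0.le
    have := Nat.ceil_lt_add_one ht0.le
    have h1' : (⌈s⌉₊ : ℝ) = ⌈t⌉₊ := by exact_mod_cast h1
    rw [abs_lt]; constructor <;> linarith
  have h3 : s - t = (a.arg - b.arg) / (Real.pi / 6) := by rw [hs, ht]; ring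
  rw [h3, abs_div, abs_of_pos (show (0:ℝ) < Real.pi / 6 by positivity),
    div_lt_one (by positivity)] at h2
  exact h2

theorem norm_div_sub_discCentre_lt {a b : ℂ} (ha : ‖a‖ = 1) (hb : ‖b‖ = 1) (h : box a = box b) :
    ‖a / b - discCentre‖ < 1 / 2 := by
  have hexp : a / b = Complex.exp ((a.arg - b.arg : ℝ) * Complex.I) := by
    have ea := Complex.norm_mul_exp_arg_mul_I a
    have eb := Complex.norm_mul_exp_arg_mul_I b
    rw [ha] at ea; rw [hb] at eb
    simp only [Complex.ofReal_one, one_mul] at ea eb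
    rw [Complex.ofReal_sub, sub_mul, Complex.exp_sub, ea, eb]
  have hlt := abs_arg_sub_lt h
  rw [hexp]
  generalize a.arg - b.arg = θ at hlt ⊢
  have hcos : Real.sqrt 3 / 2 < Real.cos θ := by
    rw [← Real.cos_pi_div_six, ← Real.cos_abs θ]
    exact Real.cos_lt_cos_of_nonneg_of_le_pi (abs_nonneg _) (by linarith [Real.pi_pos]) hlt
  refine lt_of_pow_lt_pow_left₀ 2 (by norm_num) ?_
  rw [Complex.sq_norm, Complex.normSq_apply]
  simp only [Complex.sub_re, Complex.sub_im, Complex.exp_ofReal_mul_I_re,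
    Complex.exp_ofReal_mul_I_im, discCentre, Complex.ofReal_re, Complex.ofReal_im, sub_zero]
  have h3 : Real.sqrt 3 * Real.sqrt 3 = 3 := Real.mul_self_sqrt (by norm_num)
  have h4 : 0 < Real.sqrt 3 := Real.sqrt_pos.2 (by norm_num)
  nlinarith [Real.sin_sq_add_cos_sq θ, mul_lt_mul_of_pos_left hcos h4]

/-- An operator acting by scalars close to `b` on orthogonal spanning subspaces is close to `b`. -/
theorem norm_le_of_joint {κ : Type*} [Fintype κ] (T : Module.End ℂ W) (V : κ → Submodule ℂ W)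
    (hV : OrthogonalFamily ℂ (fun i => V i) fun i => (V i).subtypeₗᵢ) (htop : ⨆ i, V i = ⊤)
    (b : ℂ) (c : κ → ℂ) (hT : ∀ i, ∀ v ∈ V i, T v - b • v = c i • v) (r : ℝ) (hr0 : 0 ≤ r)
    (hc : ∀ i, ‖c i‖ ≤ r) (w : W) : ‖T w - b • w‖ ≤ r * ‖w‖ := by
  classical
  obtain ⟨l, hl, hsum⟩ := (Submodule.mem_iSup_iff_exists_finsupp V w).1 (htop ▸ Submodule.mem_top)
  rw [Finsupp.sum_fintype _ _ (fun _ => rfl)] at hsum
  let q : ∀ i, V i := fun i => ⟨l i, hl i⟩
  have hw : w = ∑ i, (V i).subtypeₗᵢ (q i) := hsum.symm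
  have hy : T w - b • w = ∑ i, (V i).subtypeₗᵢ (c i • q i) := by
    rw [← hsum, map_sum, Finset.smul_sum, ← Finset.sum_sub_distrib]
    exact Finset.sum_congr rfl fun i _ => hT i _ (hl i)
  rw [hy]
  conv_rhs => rw [hw]
  refine le_of_pow_le_pow_left₀ two_ne_zero (mul_nonneg hr0 (norm_nonneg _)) ?_
  rw [mul_pow, hV.norm_sum _ Finset.univ, hV.norm_sum _ Finset.univ, Finset.mul_sum]
  refine Finset.sum_le_sum fun i _ => ?_
  rw [norm_smul, mul_pow]
  exact mul_le_mul_of_nonneg_right (pow_le_pow_left₀ (norm_nonneg _) (hc i) 2) (sq_nonneg _)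

include hu in
theorem index_le (H : Subgroup G) (hH : ∀ x ∈ H, ∀ y ∈ H, x * y = y * x) :
    ((nearSubgroup u).subgroupOf H).index ≤ 12 ^ Module.finrank ℂ W := by
  classical
  let g : H → G := Subtype.val
  have hg : ∀ i j : H, Commute (g i) (g j) := fun i j => hH _ i.2 _ j.2
  have hV := joint_orthogonal u hu g
  have hind := hV.independent
  let Λ := {ν : H → ℂ // joint u g ν ≠ ⊥}
  haveI : Fintype Λ := hind.fintypeNeBotOfFiniteDimensional
  have hΛ : Fintype.card Λ ≤ Module.finrank ℂ W := hind.subtype_ne_bot_le_finrank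
  have hnorm : ∀ (ν : Λ) (a : H), ‖ν.1 a‖ = 1 := by
    intro ν a
    obtain ⟨v, hv, hv0⟩ := (Submodule.ne_bot_iff _).1 ν.2
    have := hu (g a) v
    rw [(mem_joint u g).1 hv a, norm_smul] at this
    exact (mul_eq_right₀ (norm_ne_zero_iff.2 hv0)).1 this
  let f : H → Λ → Fin 12 := fun a ν => ⟨box (ν.1 a), box_lt _⟩
  have key : ∀ a b : H, f a = f b → b⁻¹ * a ∈ (nearSubgroup u).subgroupOf H := by
    intro a b hab
    rw [Subgroup.mem_subgroupOf]
    refine Subgroup.subset_closure ?_
    let m : Λ → ℝ := fun ν => ‖ν.1 a / ν.1 b - discCentre‖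
    have hm : ∀ ν : Λ, m ν < 1 / 2 := fun ν =>
      norm_div_sub_discCentre_lt (hnorm ν a) (hnorm ν b) (congrArg Fin.val (congrFun hab ν))
    set r := (insert 0 (Finset.univ.image m)).max' (Finset.insert_nonempty _ _) with hr
    have hr2 : r < 1 / 2 := by
      rw [hr, Finset.max'_lt_iff]
      intro z hz
      rcases Finset.mem_insert.1 hz with rfl | hz
      · norm_num
      · obtain ⟨ν, -, rfl⟩ := Finset.mem_image.1 hz
        exact hm ν
    have hr0 : 0 ≤ r := Finset.le_max' _ _ (Finset.mem_insert_self _ _)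
    have hrm : ∀ ν, m ν ≤ r := fun ν =>
      Finset.le_max' _ _ (Finset.mem_insert_of_mem (Finset.mem_image_of_mem m (Finset.mem_univ ν)))
    refine ⟨r, hr2, fun w => ?_⟩
    have hy : ∀ ν : Λ, ∀ v ∈ joint u g ν.1,
        u (b⁻¹ * a : H) v - discCentre • v = (ν.1 a / ν.1 b - discCentre) • v := by
      intro ν v hv
      have hv := (mem_joint u g).1 hv
      have hb : u (g b)⁻¹ v = (ν.1 b)⁻¹ • v := by
        have h1 : v = ν.1 b • u (g b)⁻¹ v := by
          rw [← map_smul, ← hv b, ← apply_mul]; simp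
        conv_rhs => rw [h1]
        rw [smul_smul, inv_mul_cancel₀ (norm_ne_zero_iff.1 (by rw [hnorm ν b]; norm_num)), one_smul]
      show u ((g b)⁻¹ * g a) v - discCentre • v = _
      rw [apply_mul, hv a, map_smul, hb, smul_smul, sub_smul, ← div_eq_mul_inv]
    exact norm_le_of_joint (u (b⁻¹ * a : H)).toLinearMap (fun ν : Λ => joint u g ν.1)
      (hV.comp Subtype.val_injective)
      (by rw [← iSup_joint_eq_top u g hg, iSup_ne_bot_subtype]) _ _ hy r hr0 hrm w
  have hinjf : Function.Injective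
      fun q : H ⧸ (nearSubgroup u).subgroupOf H => f q.out := by
    intro q q' hqq
    rw [← QuotientGroup.out_eq' q, ← QuotientGroup.out_eq' q']
    exact ((QuotientGroup.eq).2 (key _ _ hqq)).symm
  rw [Subgroup.index]
  refine (Nat.card_le_card_of_injective _ hinjf).trans ?_
  rw [Nat.card_fun, Nat.card_fin, Nat.card_eq_fintype_card]
  exact Nat.pow_le_pow_right (by norm_num) hΛ

end CfsgLib.Jordan
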