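import Mathlib.Analysis.InnerProductSpace.PiL2
import Mathlib.Analysis.InnerProductSpace.Subspace
import Mathlib.Analysis.Complex.Polynomial.Basic
import Mathlib.LinearAlgebra.Eigenspace.Semisimple
import Mathlib.LinearAlgebra.Eigenspace.Pi
import Mathlib.RepresentationTheory.Basic
import Mathlib.FieldTheory.Separable

/-!
# Finite groups of unitary operators

A representation of a finite group is realised isometrically; commuting elements of such a group
have orthogonal joint eigenspaces which span the space.
-/

set_option autoImplicit false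
set_option linter.unusedSectionVars false

namespace CfsgLib.Jordan

open scoped ComplexConjugate InnerProductSpace

variable {G : Type*} [Group G]

section Model

variable [Fintype G] {n : ℕ} (ρ : Representation ℂ G (Fin n → ℂ))

/-- Spread a vector over all its translates. -/
noncomputable def spread : (Fin n → ℂ) →ₗ[ℂ] EuclideanSpace ℂ (G × Fin n) where
  toFun v := WithLp.toLp 2 fun p => ρ p.1 v p.2
  map_add' v w := by ext p; simp
  map_smul' c v := by ext p; simp

theorem spread_apply (v : Fin n → ℂ) (p : G × Fin n) : spread ρ v p = ρ p.1 v p.2 := rfl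

theorem spread_injective : Function.Injective (spread ρ) := by
  intro v w h
  funext i
  have := congrFun (congrArg WithLp.ofLp h) ((1 : G), i)
  simpa [spread] using this

/-- The coordinate space as an inner product space on which the group acts isometrically. -/
abbrev Space : Type _ := LinearMap.range (spread ρ)

noncomputable def spaceEquiv : (Fin n → ℂ) ≃ₗ[ℂ] Space ρ :=
  LinearEquiv.ofInjective (spread ρ) (spread_injective ρ)

theorem finrank_space : Module.finrank ℂ (Space ρ) = n := by
  rw [← (spaceEquiv ρ).finrank_eq]; simp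

/-- An equivalence of the coordinate space with Euclidean space that is invariant in norm. -/
noncomputable def euclidEquiv : (Fin n → ℂ) ≃ₗ[ℂ] EuclideanSpace ℂ (Fin n) :=
  (spaceEquiv ρ).trans
    (((stdOrthonormalBasis ℂ (Space ρ)).reindex (finCongr (finrank_space ρ))).repr.toLinearEquiv)

theorem euclidEquiv_norm (v : Fin n → ℂ) : ‖euclidEquiv ρ v‖ = ‖spread ρ v‖ := by
  simp only [euclidEquiv, LinearEquiv.trans_apply, LinearIsometryEquiv.coe_toLinearEquiv,
    LinearIsometryEquiv.norm_map]
  rfl

/-- The isometric action on Euclidean space. -/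
noncomputable def unitaryRep :
    G →* (EuclideanSpace ℂ (Fin n) →L[ℂ] EuclideanSpace ℂ (Fin n)) where
  toFun g := LinearMap.toContinuousLinearMap
    ((euclidEquiv ρ).toLinearMap ∘ₗ ρ g ∘ₗ (euclidEquiv ρ).symm.toLinearMap)
  map_one' := by ext x; simp
  map_mul' g h := by ext x; simp

theorem unitaryRep_norm (g : G) (w : EuclideanSpace ℂ (Fin n)) :
    ‖unitaryRep ρ g w‖ = ‖w‖ := by
  obtain ⟨v, rfl⟩ := (euclidEquiv ρ).surjective w
  have h1 : unitaryRep ρ g (euclidEquiv ρ v) = euclidEquiv ρ (ρ g v) := by simp [unitaryRep]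
  rw [h1, euclidEquiv_norm, euclidEquiv_norm, EuclideanSpace.norm_eq, EuclideanSpace.norm_eq]
  congr 1
  refine Fintype.sum_equiv ((Equiv.mulRight g).prodCongr (Equiv.refl _)) _ _ fun p => ?_
  simp [spread_apply]

theorem unitaryRep_eq_one {g : G} (h : unitaryRep ρ g = 1) : ρ g = 1 := by
  refine LinearMap.ext fun v => (euclidEquiv ρ).injective ?_
  have := DFunLike.congr_fun h (euclidEquiv ρ v)
  simpa [unitaryRep] using this

end Model

section Eigen

variable {W : Type*} [NormedAddCommGroup W] [InnerProductSpace ℂ W]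
  (u : G →* (W →L[ℂ] W)) (hu : ∀ g w, ‖u g w‖ = ‖w‖)

include hu in
theorem inner_map (g : G) (v w : W) : ⟪u g v, u g w⟫_ℂ = ⟪v, w⟫_ℂ :=
  LinearIsometry.inner_map_map ⟨(u g).toLinearMap, hu g⟩ v w

theorem apply_mul (g h : G) (w : W) : u (g * h) w = u g (u h w) := by
  rw [map_mul]; rfl

/-- The endomorphism underlying `u g`. -/
abbrev op (g : G) : Module.End ℂ W := (u g).toLinearMap

include hu in
theorem inner_eq_zero_of_ne {g : G} {a b : ℂ} {v w : W} (hv : u g v = a • v) (hw : u g w = b • w)
    (hab : a ≠ b) : ⟪v, w⟫_ℂ = 0 := by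
  rcases eq_or_ne v 0 with rfl | hv0
  · simp
  have ha : ‖a‖ = 1 := by
    have := hu g v
    rw [hv, norm_smul] at this
    exact (mul_eq_right₀ (norm_ne_zero_iff.2 hv0)).1 this
  have h := inner_map u hu g v w
  rw [hv, hw, inner_smul_left, inner_smul_right, ← mul_assoc] at h
  by_contra hne
  have h1 : conj a * b = 1 := (mul_eq_right₀ hne).1 h
  have h2 : conj a * a = 1 := by rw [Complex.conj_mul', ha]; simp
  have h3 : conj a ≠ 0 := left_ne_zero_of_mul_eq_one h2
  exact hab (mul_left_cancel₀ h3 (h2.trans h1.symm))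

variable {ι : Type*} (g : ι → G)

/-- The joint eigenspace of the elements `g i` for the eigenvalues `ν i`. -/
noncomputable def joint (ν : ι → ℂ) : Submodule ℂ W :=
  ⨅ i, Module.End.eigenspace (op u (g i)) (ν i)

theorem mem_joint {ν : ι → ℂ} {v : W} : v ∈ joint u g ν ↔ ∀ i, u (g i) v = ν i • v := by
  simp [joint, Submodule.mem_iInf]

include hu in
theorem joint_orthogonal :
    OrthogonalFamily ℂ (fun ν : ι → ℂ => joint u g ν) fun ν => (joint u g ν).subtypeₗᵢ := by
  intro ν ν' hne v w
  obtain ⟨i, hi⟩ := Function.ne_iff.1 hne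
  exact inner_eq_zero_of_ne u hu ((mem_joint u g).1 v.2 i) ((mem_joint u g).1 w.2 i) hi

variable [FiniteDimensional ℂ W] [Finite G]

theorem op_isSemisimple (x : G) : (op u x).IsSemisimple := by
  have hm : 0 < orderOf x := orderOf_pos x
  have hpow : (op u x) ^ orderOf x = 1 := by
    have : (u x) ^ orderOf x = 1 := by rw [← map_pow, pow_orderOf_eq_one, map_one]
    refine LinearMap.ext fun w => ?_
    rw [Module.End.pow_apply]
    have h2 := DFunLike.congr_fun this w
    simpa [ContinuousLinearMap.coe_pow'] using h2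
  have hsep : (Polynomial.X ^ orderOf x - Polynomial.C (1 : ℂ)).Separable :=
    Polynomial.separable_X_pow_sub_C 1 (by exact_mod_cast hm.ne') one_ne_zero
  exact Module.End.isSemisimple_of_squarefree_aeval_eq_zero hsep.squarefree (by simp [hpow])

theorem iSup_joint_eq_top (hg : ∀ i j, Commute (g i) (g j)) : ⨆ ν, joint u g ν = ⊤ := by
  have he : ∀ i (c : ℂ), (op u (g i)).maxGenEigenspace c = (op u (g i)).eigenspace c := fun i c =>
    (op_isSemisimple u (g i)).isFinitelySemisimple.maxGenEigenspace_eq_eigenspace c
  have h := Module.End.iSup_iInf_maxGenEigenspace_eq_top_of_iSup_maxGenEigenspace_eq_top_of_commute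
    (fun i => op u (g i)) (fun i j _ => by
      refine LinearMap.ext fun w => ?_
      show u (g i) (u (g j) w) = u (g j) (u (g i) w)
      rw [← apply_mul, ← apply_mul, (hg i j).eq])
    (fun i => Module.End.iSup_maxGenEigenspace_eq_top _)
  simpa [joint, he] using h

theorem op_eq_of_joint (hg : ∀ i j, Commute (g i) (g j)) (f f' : Module.End ℂ W)
    (h : ∀ ν, ∀ v ∈ joint u g ν, f v = f' v) : f = f' := by
  have : ⨆ ν, joint u g ν ≤ LinearMap.eqLocus f f' := iSup_le fun ν v hv => h ν v hv
  rw [iSup_joint_eq_top u g hg] at this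
  exact LinearMap.ext fun w => this Submodule.mem_top

end Eigen

end CfsgLib.Jordan
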